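import Groth.Prelude.Def_W4c3tautjacobianRel
import Mathlib.RingTheory.MvPolynomial.EulerIdentity

/-!
# The `sl₂` structure of the formal relation ring
-/

set_option autoImplicit false

open MvPolynomial

namespace GrothLib.W4cTaut7

open W4c3tautjacobian

variable (g : ℕ)

/-- The weight with integer entries. -/
def zwt : Var g → ℤ × ℤ := fun v => (((wt g v).1 : ℤ), ((wt g v).2 : ℤ))

/-- Bihomogeneity for the integral weight. -/
def Hom (P : RelRing g) (z : ℤ × ℤ) : Prop := MvPolynomial.IsWeightedHomogeneous (zwt g) P z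

variable {g}

theorem zweight_eq (d : Var g →₀ ℕ) :
    Finsupp.weight (zwt g) d = (((Finsupp.weight (wt g) d).1 : ℤ), ((Finsupp.weight (wt g) d).2 : ℤ)) := by
  induction d using Finsupp.induction_linear with
  | zero => simp [Prod.zero_eq_mk]
  | add a b ha hb => rw [map_add, map_add, ha, hb]; simp
  | single v n => simp [Finsupp.weight_single, zwt]

theorem hom_of_wt {P : RelRing g} {a b : ℕ} (h : MvPolynomial.IsWeightedHomogeneous (wt g) P (a, b)) :
    Hom g P ((a : ℤ), (b : ℤ)) := fun d hd => by rw [zweight_eq, h hd]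

theorem eq_zero_of_neg {P : RelRing g} {z : ℤ × ℤ} (h : Hom g P z) (hz : z.1 < 0 ∨ z.2 < 0) : P = 0 := by
  ext d
  rw [coeff_zero]
  by_contra hd
  have := h hd
  rw [zweight_eq] at this
  rw [← this] at hz
  simp at hz
  omega

theorem hom_monomial (d : Var g →₀ ℕ) (c : ℚ) : Hom g (monomial d c) (Finsupp.weight (zwt g) d) :=
  isWeightedHomogeneous_monomial _ _ _ rfl

theorem hom_natCast (n : ℕ) : Hom g (n : RelRing g) 0 := by
  rw [← map_natCast (C : ℚ →+* RelRing g)]
  exact isWeightedHomogeneous_C _ _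

theorem xv_of_valid {p : ℕ × ℕ} (h : Valid g p) : xv g (p.1 : ℤ) (p.2 : ℤ) = X (some ⟨p, h⟩) := by
  have h0 : ¬ ((p.1 : ℤ) = 0 ∧ (p.2 : ℤ) = 0) := fun hh => h.2.2.2 (Prod.ext (by exact_mod_cast hh.1) (by exact_mod_cast hh.2))
  rw [xv, if_neg h0, dif_pos ⟨Int.natCast_nonneg _, Int.natCast_nonneg _, by simpa using h⟩]
  simp

theorem xv_of_neg {i j : ℤ} (h : i < 0 ∨ j < 0) : xv g i j = 0 := by
  rw [xv, if_neg (by omega), dif_neg (fun hh => by omega)]

theorem xv_zero : xv g 0 0 = (g : RelRing g) := if_pos ⟨rfl, rfl⟩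

theorem hom_xv (i j : ℤ) : Hom g (xv g i j) (i, j) := by
  unfold xv
  split_ifs with h h'
  · obtain ⟨rfl, rfl⟩ := h
    exact hom_natCast g
  · refine (show ((i, j) : ℤ × ℤ) = zwt g (some ⟨(i.toNat, j.toNat), h'.2.2⟩) from ?_) ▸
      isWeightedHomogeneous_X ℚ _ _
    simp [zwt, wt, Int.toNat_of_nonneg h'.1, Int.toNat_of_nonneg h'.2.1]
  · exact isWeightedHomogeneous_zero _ _ _

theorem valid_mem_idx {p : ℕ × ℕ} (h : Valid g p) : p ∈ idx g := by
  obtain ⟨h1, h2, -, -⟩ := h
  simp [idx, Finset.mem_product, Finset.mem_range]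
  omega

theorem hom_dv {P : RelRing g} {z : ℤ × ℤ} (h : Hom g P z) (p : ℕ × ℕ) :
    Hom g (dv g p P) (z.1 - p.1, z.2 - p.2) := by
  unfold dv
  split_ifs with hp
  · exact IsWeightedHomogeneous.pderiv (n' := (z.1 - (p.1 : ℤ), z.2 - (p.2 : ℤ))) h (by simp [zwt, wt])
  · exact isWeightedHomogeneous_zero _ _ _

theorem Hom.cast {P : RelRing g} {z z' : ℤ × ℤ} (h : Hom g P z) (e : z = z') : Hom g P z' := e ▸ h

theorem hom_F {P : RelRing g} {z : ℤ × ℤ} (h : Hom g P z) : Hom g (F g P) (z.1 - 2, z.2) := by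
  have hy : Hom g (X none) (0, 2) := by
    simpa [Hom, zwt, wt] using isWeightedHomogeneous_X ℚ (zwt g) (none : Var g)
  unfold F
  refine IsWeightedHomogeneous.add ?_ ?_
  · refine (weightedHomogeneousSubmodule ℚ (zwt g) _).smul_mem _ ?_
    refine IsWeightedHomogeneous.sum _ _ _ fun p _ => IsWeightedHomogeneous.sum _ _ _ fun q _ => ?_
    rw [sub_mul]
    refine IsWeightedHomogeneous.sub ?_ ?_
    · refine Hom.cast (((hy.mul (hom_xv ((p.1 : ℤ) - 1) ((p.2 : ℤ) - 1))).mul (hom_xv ((q.1 : ℤ) - 1) ((q.2 : ℤ) - 1))).mul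
        (hom_dv (hom_dv h q) p)) ?_
      ext <;> simp <;> ring
    · refine Hom.cast (((hom_natCast (mergeCoeff p.1 q.1)).mul (hom_xv ((p.1 : ℤ) + q.1 - 2) ((p.2 : ℤ) + q.2))).mul
        (hom_dv (hom_dv h q) p)) ?_
      ext <;> simp <;> ring
  · refine IsWeightedHomogeneous.sum _ _ _ fun p _ => ?_
    refine Hom.cast ((hom_xv ((p.1 : ℤ) - 2) (p.2 : ℤ)).mul (hom_dv h p)) ?_
    ext <;> simp <;> ring

theorem hom_iterate_F {P : RelRing g} {z : ℤ × ℤ} (h : Hom g P z) (n : ℕ) :
    Hom g ((F g)^[n] P) (z.1 - 2 * n, z.2) := by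
  induction n with
  | zero => simpa using h
  | succ n ih =>
    rw [Function.iterate_succ_apply']
    convert hom_F ih using 2
    push_cast
    ring

theorem dv_add (p : ℕ × ℕ) (P Q : RelRing g) : dv g p (P + Q) = dv g p P + dv g p Q := by
  unfold dv; split_ifs <;> simp

theorem dv_smul (p : ℕ × ℕ) (c : ℚ) (P : RelRing g) : dv g p (c • P) = c • dv g p P := by
  unfold dv; split_ifs <;> simp

theorem F_add (P Q : RelRing g) : F g (P + Q) = F g P + F g Q := by
  simp only [F, dv_add, mul_add, Finset.sum_add_distrib, smul_add]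
  abel

theorem F_smul (c : ℚ) (P : RelRing g) : F g (c • P) = c • F g P := by
  simp only [F, dv_smul, mul_smul_comm, ← Finset.smul_sum, smul_add, smul_comm c (1 / 2 : ℚ)]

/-- The operator `F` as a linear map. -/
noncomputable def FL (g : ℕ) : RelRing g →ₗ[ℚ] RelRing g :=
  { toFun := F g, map_add' := F_add, map_smul' := F_smul }

theorem FL_apply (P : RelRing g) : FL g P = F g P := rfl

theorem mergeCoeff_comm (i k : ℕ) : mergeCoeff i k = mergeCoeff k i := by
  unfold mergeCoeff
  by_cases h : i = 0 ∨ k = 0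
  · rw [if_pos h, if_pos h.symm]
  · rw [if_neg h, if_neg (fun h' => h h'.symm), Nat.add_comm k i]
    exact Nat.choose_symm_of_eq_add (by omega)

theorem mergeCoeff_two (i : ℕ) : mergeCoeff i 2 = i := by
  unfold mergeCoeff
  rcases i with _ | i
  · simp
  · rw [if_neg (by omega), show i + 1 + 2 - 2 = i + 1 by omega, show i + 1 - 1 = i by omega, Nat.choose_succ_self_right]

theorem valid_two (hg : 1 ≤ g) : Valid g (2, 0) := ⟨by simp, by simpa using Nat.mul_le_mul_left 2 hg, by decide, by simp⟩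

/-- The Euler operator of the first degree. -/
noncomputable def D (g : ℕ) (P : RelRing g) : RelRing g :=
  ∑ p ∈ idx g, (p.1 : RelRing g) * xv g (p.1 : ℤ) (p.2 : ℤ) * dv g p P

theorem dv_mul (p : ℕ × ℕ) (P Q : RelRing g) : dv g p (P * Q) = dv g p P * Q + P * dv g p Q := by
  unfold dv
  split_ifs <;> simp [mul_comm, add_comm]

theorem dv_X_some (p : ℕ × ℕ) (q : {p : ℕ × ℕ // Valid g p}) :
    dv g p (X (some q)) = if p = q.1 then 1 else 0 := by
  classical
  unfold dv
  split_ifs with h h' h'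
  · subst h'; simp
  · rw [pderiv_X_of_ne]
    intro e
    exact h' (congrArg Subtype.val (Option.some.inj e)).symm
  · exact absurd (h' ▸ q.2) h
  · rfl

theorem dv_X_none (p : ℕ × ℕ) : dv g p (X none) = 0 := by
  classical
  unfold dv
  split_ifs
  · exact pderiv_X_of_ne (by simp)
  · rfl

theorem D_monomial (d : Var g →₀ ℕ) (c : ℚ) :
    D g (monomial d c) = ((Finsupp.weight (wt g) d).1 : RelRing g) * monomial d c := by
  have hD : ∀ P Q : RelRing g, D g (P * Q) = D g P * Q + P * D g Q := fun P Q => by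
    simp only [D, dv_mul, Finset.mul_sum, Finset.sum_mul, ← Finset.sum_add_distrib]
    exact Finset.sum_congr rfl fun p _ => by ring
  have hX : ∀ v : Var g, D g (X v) = ((wt g v).1 : RelRing g) * X v := by
    rintro (_ | q)
    · simp [D, dv_X_none, wt]
    · simp only [D, dv_X_some, mul_ite, mul_one, mul_zero]
      rw [Finset.sum_ite_eq' (idx g) q.1, if_pos (valid_mem_idx q.2), xv_of_valid q.2]
      rfl
  have hC : D g (C c) = 0 := by simp [D, dv]
  induction d using Finsupp.induction with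
  | zero => simpa using hC
  | single_add v n d hv hn ih =>
    have hpow : ∀ n : ℕ, D g (X v ^ n) = ((n * (wt g v).1 : ℕ) : RelRing g) * X v ^ n := by
      intro n
      induction n with
      | zero => simp [D, dv]
      | succ n ih => rw [pow_succ, hD, ih, hX]; push_cast; ring
    rw [monomial_single_add, hD, hpow, ih, map_add]
    simp only [Prod.fst_add, Finsupp.weight_single, Prod.smul_fst, smul_eq_mul]
    push_cast
    ring

theorem D_hom {P : RelRing g} {a b : ℕ} (h : MvPolynomial.IsWeightedHomogeneous (wt g) P (a, b)) :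
    D g P = (a : RelRing g) * P := by
  have hD : ∀ P Q : RelRing g, D g (P + Q) = D g P + D g Q := fun P Q => by
    simp only [D, dv_add, mul_add, Finset.sum_add_distrib]
  let Dh : RelRing g →+ RelRing g := AddMonoidHom.mk' (D g) hD
  have e := P.as_sum
  conv_lhs => rw [e]
  show Dh _ = _
  rw [map_sum]
  conv_rhs => rw [e, Finset.mul_sum]
  refine Finset.sum_congr rfl fun d hd => ?_
  show D g _ = _
  rw [D_monomial, h (mem_support_iff.1 hd)]

theorem F_E (hg : 1 ≤ g) (P : RelRing g) : F g (E g P) = E g (F g P) + (g : RelRing g) * P - D g P := by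
  classical
  have hs := valid_two hg
  have hx : xv g 2 0 = X (some ⟨(2, 0), hs⟩) := by simpa using xv_of_valid hs
  have hd : ∀ (p : ℕ × ℕ) (Q : RelRing g),
      dv g p (E g Q) = (if p = (2, 0) then 1 else 0) * Q + E g (dv g p Q) := fun p Q => by
    rw [E, E, hx, dv_mul, dv_X_some]
  let A : ℕ × ℕ → ℕ × ℕ → RelRing g := fun p q =>
    MvPolynomial.X none * xv g ((p.1 : ℤ) - 1) ((p.2 : ℤ) - 1) * xv g ((q.1 : ℤ) - 1) ((q.2 : ℤ) - 1)
      - (mergeCoeff p.1 q.1 : RelRing g) * xv g ((p.1 : ℤ) + q.1 - 2) ((p.2 : ℤ) + q.2)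
  have hA : ∀ p q, A p q = A q p := fun p q => by
    simp only [A]
    rw [mergeCoeff_comm, add_comm (p.1 : ℤ), add_comm (p.2 : ℤ)]
    ring
  have hAs : ∀ p, A p (2, 0) = -((p.1 : RelRing g) * xv g (p.1 : ℤ) (p.2 : ℤ)) := fun p => by
    simp only [A]
    rw [mergeCoeff_two]
    simp [xv_of_neg (i := (1 : ℤ)) (j := -1) (Or.inr (by norm_num))]
  have h2 : ∀ p q, dv g p (dv g q (E g P)) = (if q = (2, 0) then 1 else 0) * dv g p P
      + (if p = (2, 0) then 1 else 0) * dv g q P + E g (dv g p (dv g q P)) := fun p q => by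
    rw [hd, dv_add, hd, dv_mul]
    have : dv g p ((if q = (2, 0) then 1 else 0) : RelRing g) = 0 := by
      unfold dv; split_ifs <;> simp
    rw [this]
    ring
  have hmem := valid_mem_idx hs
  have e1 : ∑ p ∈ idx g, ∑ q ∈ idx g, A p q * dv g p (dv g q (E g P)) =
      -(D g P) + -(D g P) + E g (∑ p ∈ idx g, ∑ q ∈ idx g, A p q * dv g p (dv g q P)) := by
    simp only [h2, mul_add, Finset.sum_add_distrib]
    congr 1
    congr 1
    · rw [D, ← Finset.sum_neg_distrib]
      refine Finset.sum_congr rfl fun p _ => ?_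
      simp only [ite_mul, one_mul, zero_mul, mul_ite, mul_zero, Finset.sum_ite_eq', if_pos hmem]
      rw [hAs]
      ring
    · rw [Finset.sum_comm, D, ← Finset.sum_neg_distrib]
      refine Finset.sum_congr rfl fun p _ => ?_
      simp only [ite_mul, one_mul, zero_mul, mul_ite, mul_zero, Finset.sum_ite_eq', if_pos hmem]
      rw [hA, hAs]
      ring
    · simp only [E, Finset.mul_sum]
      exact Finset.sum_congr rfl fun p _ => Finset.sum_congr rfl fun q _ => by ring
  have e2 : ∑ p ∈ idx g, xv g ((p.1 : ℤ) - 2) (p.2 : ℤ) * dv g p (E g P) =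
      (g : RelRing g) * P + E g (∑ p ∈ idx g, xv g ((p.1 : ℤ) - 2) (p.2 : ℤ) * dv g p P) := by
    simp only [hd, mul_add, Finset.sum_add_distrib]
    congr 1
    · simp only [ite_mul, one_mul, zero_mul, mul_ite, mul_zero, Finset.sum_ite_eq', if_pos hmem]
      simp [xv_zero]
    · simp only [E, Finset.mul_sum]
      exact Finset.sum_congr rfl fun p _ => by ring
  show (1 / 2 : ℚ) • (∑ p ∈ idx g, ∑ q ∈ idx g, A p q * dv g p (dv g q (E g P))) + _ = _
  rw [e1, e2]
  simp only [F, E, A, smul_add, smul_neg, mul_add, mul_smul_comm]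
  module

theorem iterate_F_E (hg : 1 ≤ g) {P : RelRing g} {a b : ℕ}
    (h : MvPolynomial.IsWeightedHomogeneous (wt g) P (a, b)) (n : ℕ) :
    (F g)^[n + 1] (E g P) = E g ((F g)^[n + 1] P) + (((n : ℚ) + 1) * ((g : ℚ) - a + n)) • (F g)^[n] P := by
  have hD : ∀ m : ℕ, D g ((F g)^[m] P) = ((a : ℚ) - 2 * m) • (F g)^[m] P := by
    intro m
    have hm := hom_iterate_F (hom_of_wt h) m
    by_cases hlt : a < 2 * m
    · rw [eq_zero_of_neg hm (Or.inl (by push_cast; omega))]
      simp [D, dv]
    · have : MvPolynomial.IsWeightedHomogeneous (wt g) ((F g)^[m] P) (a - 2 * m, b) := fun d hd => by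
        have := hm hd
        rw [zweight_eq, Prod.ext_iff] at this
        simp only at this
        refine Prod.ext ?_ ?_
        · simp only; omega
        · simp only; omega
      rw [D_hom this, ← map_natCast (C : ℚ →+* RelRing g), ← smul_eq_C_mul]
      congr 1
      rw [Nat.cast_sub (by omega)]
      push_cast
      ring
  have hgP : ∀ Q : RelRing g, (g : RelRing g) * Q = (g : ℚ) • Q := fun Q => by
    rw [← map_natCast (C : ℚ →+* RelRing g), ← smul_eq_C_mul]
  induction n with
  | zero =>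
    simp only [Nat.zero_add, Function.iterate_one, Function.iterate_zero, id_eq, Nat.cast_zero]
    rw [F_E hg, hgP, show D g P = (a : ℚ) • P by simpa using hD 0]
    module
  | succ n ih =>
    rw [Function.iterate_succ_apply' (F g) (n + 1), ih, F_add, F_smul, ← Function.iterate_succ_apply' (F g) n,
      F_E hg, hgP, hD (n + 1), ← Function.iterate_succ_apply' (F g) (n + 1)]
    push_cast
    module

end GrothLib.W4cTaut7
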