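import Groth.Agent.Lib.W4cTaut7.Positive
import Mathlib.RingTheory.Ideal.Quotient.Operations

/-!
# The relation ideal in first degree zero
-/

set_option autoImplicit false

open MvPolynomial

namespace GrothLib.W4cTaut7

open W4c3tautjacobian

variable {g : ℕ}

theorem iterate_eq_zero_of_small (hg : 1 ≤ g) {n : ℕ} (hn : g < n) {d : Var g →₀ ℕ}
    (ha : (Finsupp.weight (wt g) d).1 = 2 * n) (hb : 3 * (Finsupp.weight (wt g) d).2 ≤ 2 * g) :
    (F g)^[n] (monomial d (1 : ℚ)) = 0 := by
  classical
  induction n generalizing d with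
  | zero => omega
  | succ n ih =>
    let s : Var g := some ⟨(2, 0), valid_two hg⟩
    have hs : d s ≠ 0 := by
      intro h0
      have key : (Finsupp.weight (wt g) d).1 ≤ 3 * (Finsupp.weight (wt g) d).2 := by
        rw [Finsupp.weight_apply, Finsupp.sum, Prod.fst_sum, Prod.snd_sum, Finset.mul_sum]
        refine Finset.sum_le_sum fun v hv => ?_
        rcases v with _ | ⟨⟨i, j⟩, h1, h2, h3, h4⟩
        · simp [wt]
        · have hne : ¬ (i = 2 ∧ j = 0) := by
            rintro ⟨rfl, rfl⟩
            exact (Finsupp.mem_support_iff.1 hv) h0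
          have : i ≤ 3 * j := by
            by_contra h
            simp only at h1 h3
            obtain ⟨t, ht⟩ := h3
            simp only [ne_eq, Prod.mk.injEq] at h4
            omega
          simp only [wt, Prod.smul_fst, Prod.smul_snd, smul_eq_mul]
          rw [mul_left_comm]
          exact Nat.mul_le_mul_left _ this
      omega
    let d' := d - Finsupp.single s 1
    have hd : d = Finsupp.single s 1 + d' := (add_tsub_cancel_of_le (Finsupp.single_le_iff.2 (Nat.pos_of_ne_zero hs))).symm
    have hw : Finsupp.weight (wt g) d = (2, 0) + Finsupp.weight (wt g) d' := by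
      conv_lhs => rw [hd]
      rw [map_add, Finsupp.weight_single, one_smul]
      rfl
    rw [hw] at ha hb
    simp only [Prod.fst_add, Prod.snd_add, zero_add] at ha hb
    have ha' : (Finsupp.weight (wt g) d').1 = 2 * n := by omega
    have hβ : MvPolynomial.IsWeightedHomogeneous (wt g) (monomial d' (1 : ℚ)) (2 * n, (Finsupp.weight (wt g) d').2) :=
      isWeightedHomogeneous_monomial _ _ _ (Prod.ext ha' rfl)
    have hE : monomial d (1 : ℚ) = E g (monomial d' 1) := by
      rw [E, show xv g 2 0 = X s by simpa using xv_of_valid (valid_two hg), X, monomial_mul, mul_one, ← hd]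
    rw [hE, iterate_F_E hg hβ n,
      eq_zero_of_neg (hom_iterate_F (hom_of_wt hβ) (n + 1)) (Or.inl (by simp only; push_cast; omega)), E, mul_zero, zero_add]
    by_cases hgn : g < n
    · rw [ih hgn ha' hb, smul_zero]
    · rw [show (g : ℚ) - ((2 * n : ℕ) : ℚ) + n = 0 by rw [show n = g by omega]; push_cast; ring, mul_zero, zero_smul]

theorem eq_zero_of_mem_relIdeal (hg : 1 ≤ g) {N : ℕ} (hN : 3 * N ≤ 2 * g) {P : RelRing g} (hP : P ∈ relIdeal g)
    (hhom : MvPolynomial.IsWeightedHomogeneous (wt g) P (0, N)) : P = 0 := by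
  classical
  have key : ∀ R : RelRing g, ∀ d : Var g →₀ ℕ, Finsupp.weight (wt g) d = (0, N) → coeff d (R * P) = 0 := by
    clear hhom
    induction hP using Submodule.span_induction with
    | zero => intro R d _; simp
    | add a b _ _ ha hb => intro R d hd; rw [mul_add, coeff_add, ha R d hd, hb R d hd, add_zero]
    | smul c a _ ha => intro R d hd; rw [smul_eq_mul, ← mul_assoc]; exact ha (R * c) d hd
    | mem Q hQ =>
      obtain ⟨e, n, hlt, rfl⟩ := hQ
      intro R d hd
      rw [coeff_mul]
      refine Finset.sum_eq_zero fun x hx => ?_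
      have hx' := Finset.HasAntidiagonal.mem_antidiagonal.1 hx
      by_contra h0
      have h2 : coeff x.2 ((F g)^[n] (monomial e (1 : ℚ))) ≠ 0 := right_ne_zero_of_mul h0
      have hw := hom_iterate_F (hom_monomial e (1 : ℚ)) n h2
      rw [zweight_eq, zweight_eq, Prod.ext_iff] at hw
      simp only at hw
      have hsum : Finsupp.weight (wt g) x.1 + Finsupp.weight (wt g) x.2 = (0, N) := by rw [← map_add, hx', hd]
      rw [Prod.ext_iff] at hsum
      simp only [Prod.fst_add, Prod.snd_add] at hsum
      exact h2 (by rw [iterate_eq_zero_of_small hg (n := n) (by omega) (by omega) (by omega), coeff_zero])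
  ext d
  rw [coeff_zero]
  by_contra hd
  exact hd (by simpa using key 1 d (hhom hd))

theorem wt_le_weight {d : Var g →₀ ℕ} {u : Var g} (h : d u ≠ 0) :
    (wt g u).1 ≤ (Finsupp.weight (wt g) d).1 ∧ (wt g u).2 ≤ (Finsupp.weight (wt g) d).2 := by
  have e : Finsupp.single u 1 + (d - Finsupp.single u 1) = d :=
    add_tsub_cancel_of_le (Finsupp.single_le_iff.2 (Nat.pos_of_ne_zero h))
  rw [← e, map_add, Finsupp.weight_single, one_smul]
  exact ⟨Nat.le_add_right _ _, Nat.le_add_right _ _⟩

theorem exists_mem_adjoin (g i : ℕ) :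
    ∃ q ∈ Algebra.adjoin ℚ (lowGens g), xv g 0 (2 * (i : ℤ)) - q ∈ relIdeal g := by
  classical
  induction i using Nat.strong_induction_on with
  | _ i ih =>
  rcases Nat.eq_zero_or_pos i with rfl | hi0
  · refine ⟨(g : RelRing g), natCast_mem _ g, ?_⟩
    simp [xv_zero]
  by_cases hlow : 3 * i ≤ g
  · exact ⟨_, Algebra.subset_adjoin (Or.inr ⟨i, hi0, hlow, rfl⟩), by simp⟩
  by_cases hig : g ≤ i
  · refine ⟨0, zero_mem _, ?_⟩
    rw [xv, if_neg (by omega), dif_neg, sub_zero]
    · exact zero_mem _
    · rintro ⟨-, -, -, h, -⟩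
      simp only at h
      omega
  have hval : Valid g (0, 2 * i) := valid_top (by omega) (by omega) ⟨i + 1, by omega⟩
  let v : {p : ℕ × ℕ // Valid g p} := ⟨(0, 2 * i), hval⟩
  have hxv : xv g 0 (2 * (i : ℤ)) = X (some v) := by simpa [v] using xv_of_valid hval
  obtain ⟨d₀, hw, hc⟩ := exists_monomial_hit (g := g) (i := i) (by omega) (by omega) v rfl
  let P := (F g)^[g + 1] (monomial d₀ (1 : ℚ))
  let c := coeff (Finsupp.single (some v) 1) P
  have hPI : P ∈ relIdeal g := Ideal.subset_span ⟨d₀, g + 1, by rw [hw]; simp only; omega, rfl⟩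
  have hPw : Hom g P (0, ((2 * i : ℕ) : ℤ)) := by
    have := hom_iterate_F (hom_monomial (g := g) d₀ (1 : ℚ)) (g + 1)
    rw [zweight_eq, hw] at this
    refine this.cast (Prod.ext ?_ rfl)
    simp only
    push_cast
    ring
  let A := (Algebra.adjoin ℚ (lowGens g)).map (Ideal.Quotient.mkₐ ℚ (relIdeal g))
  let π := Ideal.Quotient.mkₐ ℚ (relIdeal g)
  have hmon : ∀ d : Var g →₀ ℕ, coeff d P ≠ 0 → d ≠ Finsupp.single (some v) 1 → π (monomial d (coeff d P)) ∈ A := by
    intro d hd hne
    have hdw := hPw hd
    rw [zweight_eq, Prod.ext_iff] at hdw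
    simp only at hdw
    rw [monomial_eq, map_mul, map_finsuppProd]
    refine mul_mem ?_ (prod_mem fun u hu => ?_)
    · rw [show (C (coeff d P) : RelRing g) = algebraMap ℚ _ (coeff d P) from rfl, AlgHom.commutes]
      exact Subalgebra.algebraMap_mem _ _
    simp only [map_pow]
    refine pow_mem ?_ _
    rcases u with _ | u
    · exact ⟨_, Algebra.subset_adjoin (Or.inl rfl), rfl⟩
    have hu' : d (some u) ≠ 0 := Finsupp.mem_support_iff.1 hu
    have hle := wt_le_weight hu'
    simp only [wt] at hle
    obtain ⟨⟨a, b⟩, hab⟩ := u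
    simp only at hle
    have ha0 : a = 0 := by omega
    subst ha0
    obtain ⟨h1, h2, ⟨j, hj⟩, h4⟩ := hab
    simp only [ne_eq, Prod.mk.injEq, true_and] at h4 hj
    have hbj : b = 2 * j := by omega
    subst hbj
    have hji : j < i := by
      by_contra hge
      obtain rfl : j = i := by omega
      apply hne
      have hsub : d = Finsupp.single (some v) 1 + (d - Finsupp.single (some v) 1) :=
        (add_tsub_cancel_of_le (Finsupp.single_le_iff.2 (Nat.pos_of_ne_zero hu'))).symm
      have e := congrArg (Finsupp.weight (wt g)) hsub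
      rw [map_add, Finsupp.weight_single, one_smul, Prod.ext_iff] at e
      simp only [Prod.fst_add, Prod.snd_add, show wt g (some v) = (0, 2 * j) from rfl] at e
      have hz : d - Finsupp.single (some v) 1 = 0 := by
        refine Finsupp.ext fun t => ?_
        rw [Finsupp.coe_zero, Pi.zero_apply]
        by_contra ht
        have key := wt_le_weight ht
        cases t with
        | none => simp only [wt] at key; omega
        | some t =>
          simp only [wt] at key
          exact t.2.2.2.2 (Prod.ext (by simp only; omega) (by simp only; omega))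
      rw [hz, add_zero] at hsub
      exact hsub
    obtain ⟨q, hq, hqI⟩ := ih j hji
    refine ⟨q, hq, ?_⟩
    have : xv g 0 (2 * (j : ℤ)) = X (some ⟨(0, 2 * j), h1, h2, ⟨j, by simp only; omega⟩, by simpa using h4⟩) := by
      simpa using xv_of_valid (g := g) (p := (0, 2 * j)) ⟨h1, h2, ⟨j, by simp only; omega⟩, by simpa using h4⟩
    rw [← this]
    exact (Ideal.Quotient.eq.2 hqI).symm
  have hsum : π P = 0 := Ideal.Quotient.eq_zero_iff_mem.2 hPI
  have hrest : π (c • X (some v)) ∈ A := by
    have hs : Finsupp.single (some v) 1 ∈ P.support := mem_support_iff.2 hc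
    have e := P.as_sum
    rw [← Finset.add_sum_erase _ _ hs] at e
    have e' : π (c • X (some v)) = -∑ d ∈ P.support.erase (Finsupp.single (some v) 1), π (monomial d (coeff d P)) := by
      rw [eq_neg_iff_add_eq_zero, ← map_sum, ← map_add, show c • (X (some v) : RelRing g) = monomial (Finsupp.single (some v) 1) c by
        simp [X, smul_monomial], ← e, hsum]
    rw [e']
    exact neg_mem (sum_mem fun d hd => hmon d (mem_support_iff.1 (Finset.mem_of_mem_erase hd)) (Finset.ne_of_mem_erase hd))
  obtain ⟨q, hq, hqe⟩ : π (X (some v)) ∈ A := by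
    have := A.smul_mem hrest c⁻¹
    rwa [map_smul, smul_smul, inv_mul_cancel₀ hc, one_smul] at this
  exact ⟨q, hq, by rw [hxv]; exact Ideal.Quotient.eq.1 hqe.symm⟩

end GrothLib.W4cTaut7
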