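import Groth.Agent.Lib.W4cTaut7.Basic

/-!
# Signs of the iterates of `F` modulo `y`
-/

set_option autoImplicit false

open MvPolynomial

namespace GrothLib.W4cTaut7

open W4c3tautjacobian

variable {g : ℕ}

/-- The monomials looked at: no `y` and only symbols of positive second degree. -/
def Good (d : Var g →₀ ℕ) : Prop := ∀ v, d v ≠ 0 → v ≠ none ∧ 1 ≤ (wt g v).2

/-- The sign of a monomial. -/
noncomputable def sgn (d : Var g →₀ ℕ) : ℚ := (-1) ^ d.degree

/-- Modulo `y`: supported on good monomials, with sign equal to the parity of their length. -/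
def Pos (P : RelRing g) : Prop :=
  ∀ d : Var g →₀ ℕ, d none = 0 → (¬ Good d → coeff d P = 0) ∧ 0 ≤ sgn d * coeff d P

/-- The monomial `d` occurs with the expected sign. -/
def Hit (d : Var g →₀ ℕ) (P : RelRing g) : Prop := d none = 0 ∧ 0 < sgn d * coeff d P

theorem Pos.zero : Pos (0 : RelRing g) := fun d _ => by simp

theorem Pos.add {P Q : RelRing g} (hP : Pos P) (hQ : Pos Q) : Pos (P + Q) := fun d hd => by
  refine ⟨fun h => by rw [coeff_add, (hP d hd).1 h, (hQ d hd).1 h, add_zero], ?_⟩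
  rw [coeff_add, mul_add]
  exact add_nonneg (hP d hd).2 (hQ d hd).2

theorem Pos.sum {ι : Type*} (s : Finset ι) (f : ι → RelRing g) (h : ∀ i ∈ s, Pos (f i)) : Pos (∑ i ∈ s, f i) :=
  Finset.sum_induction f Pos (fun _ _ => Pos.add) Pos.zero h

theorem Pos.smul {P : RelRing g} (hP : Pos P) {c : ℚ} (hc : 0 ≤ c) : Pos (c • P) := fun d hd => by
  refine ⟨fun h => by simp [(hP d hd).1 h], ?_⟩
  rw [coeff_smul, smul_eq_mul, mul_left_comm]
  exact mul_nonneg hc (hP d hd).2

theorem Hit.add {d : Var g →₀ ℕ} {P Q : RelRing g} (hP : Hit d P) (hQ : Pos Q) : Hit d (P + Q) := by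
  refine ⟨hP.1, ?_⟩
  rw [coeff_add, mul_add]
  exact add_pos_of_pos_of_nonneg hP.2 (hQ d hP.1).2

theorem Hit.sum {ι : Type*} [DecidableEq ι] {s : Finset ι} {f : ι → RelRing g} {d : Var g →₀ ℕ} {i : ι}
    (hi : i ∈ s) (h : Hit d (f i)) (hpos : ∀ j ∈ s, Pos (f j)) : Hit d (∑ j ∈ s, f j) := by
  rw [← Finset.add_sum_erase s f hi]
  exact h.add (Pos.sum _ _ fun j hj => hpos j (Finset.mem_of_mem_erase hj))

theorem Hit.smul {d : Var g →₀ ℕ} {P : RelRing g} (hP : Hit d P) {c : ℚ} (hc : 0 < c) : Hit d (c • P) := by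
  refine ⟨hP.1, ?_⟩
  rw [coeff_smul, smul_eq_mul, mul_left_comm]
  exact mul_pos hc hP.2

theorem pos_monomial {d : Var g →₀ ℕ} {c : ℚ} (hd : Good d) (hc : 0 ≤ sgn d * c) : Pos (monomial d c) := by
  classical
  intro e _
  rw [coeff_monomial]
  split_ifs with h
  · subst h
    exact ⟨fun h => absurd hd h, hc⟩
  · simp

theorem hit_monomial {d : Var g →₀ ℕ} {c : ℚ} (hd : d none = 0) (hc : 0 < sgn d * c) : Hit d (monomial d c) := by
  refine ⟨hd, ?_⟩
  rw [coeff_monomial, if_pos rfl]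
  exact hc

theorem good_none {d : Var g →₀ ℕ} (hd : Good d) : d none = 0 := by
  by_contra h
  exact (hd none h).1 rfl

theorem pos_X_none_mul (Q : RelRing g) : Pos (X none * Q) := by
  classical
  intro d hd
  have : coeff d (X none * Q) = 0 := by
    rw [coeff_X_mul', if_neg (by simp [hd])]
  simp [this]

theorem Good.sub {d : Var g →₀ ℕ} (hd : Good d) (e : Var g →₀ ℕ) : Good (d - e) :=
  fun v hv => hd v (fun h => hv (by simp [h]))

theorem good_add_single {d : Var g →₀ ℕ} (hd : Good d) {v : Var g} (hv : v ≠ none ∧ 1 ≤ (wt g v).2) :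
    Good (d + Finsupp.single v 1) := fun w hw => by
  classical
  by_cases h : w = v
  · exact h ▸ hv
  · exact hd w (by simpa [Finsupp.single_apply, Ne.symm h] using hw)

theorem Good.snd_pos {d : Var g →₀ ℕ} (hd : Good d) {p : {p : ℕ × ℕ // Valid g p}} (hp : d (some p) ≠ 0) :
    1 ≤ p.1.2 := (hd _ hp).2

theorem sgn_sub_single {d : Var g →₀ ℕ} {v : Var g} (hv : d v ≠ 0) : sgn (d - Finsupp.single v 1) = -sgn d := by
  have h : d - Finsupp.single v 1 + Finsupp.single v 1 = d :=
    tsub_add_cancel_of_le (Finsupp.single_le_iff.2 (Nat.pos_of_ne_zero hv))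
  have : d.degree = (d - Finsupp.single v 1).degree + 1 := by
    conv_lhs => rw [← h]
    simp
  rw [sgn, sgn, this, pow_succ]
  ring

theorem sgn_add_single (d : Var g →₀ ℕ) (v : Var g) : sgn (d + Finsupp.single v 1) = -sgn d := by
  rw [sgn, sgn, map_add, Finsupp.degree_single, pow_succ]
  ring

/-- One term of the quadratic part of `F`. -/
noncomputable def term2 (g : ℕ) (p q : ℕ × ℕ) (P : RelRing g) : RelRing g :=
  (MvPolynomial.X none * xv g ((p.1 : ℤ) - 1) ((p.2 : ℤ) - 1) * xv g ((q.1 : ℤ) - 1) ((q.2 : ℤ) - 1)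
      - (mergeCoeff p.1 q.1 : RelRing g) * xv g ((p.1 : ℤ) + q.1 - 2) ((p.2 : ℤ) + q.2)) * dv g p (dv g q P)

/-- One term of the linear part of `F`. -/
noncomputable def term1 (g : ℕ) (p : ℕ × ℕ) (P : RelRing g) : RelRing g :=
  xv g ((p.1 : ℤ) - 2) (p.2 : ℤ) * dv g p P

theorem F_eq (P : RelRing g) :
    F g P = (1 / 2 : ℚ) • (∑ p ∈ idx g, ∑ q ∈ idx g, term2 g p q P) + ∑ p ∈ idx g, term1 g p P := rfl

theorem dv_monomial {p : ℕ × ℕ} (hp : Valid g p) (d : Var g →₀ ℕ) (c : ℚ) :
    dv g p (monomial d c) = monomial (d - Finsupp.single (some ⟨p, hp⟩) 1) (c * d (some ⟨p, hp⟩)) := by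
  rw [dv, dif_pos hp, pderiv_monomial]

theorem dv_of_not_valid {p : ℕ × ℕ} (hp : ¬ Valid g p) (P : RelRing g) : dv g p P = 0 := dif_neg hp

theorem xv_cases (i j : ℤ) (h : ¬ (i = 0 ∧ j = 0)) :
    xv g i j = 0 ∨ ∃ t : {p : ℕ × ℕ // Valid g p}, xv g i j = X (some t) ∧ (t.1.2 : ℤ) = j := by
  unfold xv
  rw [if_neg h]
  split_ifs with h'
  · exact Or.inr ⟨⟨_, h'.2.2⟩, rfl, Int.toNat_of_nonneg h'.2.1⟩
  · exact Or.inl rfl

theorem term1_pos_or {d : Var g →₀ ℕ} {c : ℚ} (hd : Good d) (hc : 0 ≤ sgn d * c) (p : ℕ × ℕ) :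
    Pos (term1 g p (monomial d c)) := by
  by_cases hp : Valid g p
  swap
  · simp [term1, dv_of_not_valid hp, Pos.zero]
  rw [term1, dv_monomial hp]
  by_cases h0 : d (some ⟨p, hp⟩) = 0
  · simp [h0, Pos.zero]
  have hj : 1 ≤ p.2 := hd.snd_pos h0
  rcases xv_cases (g := g) ((p.1 : ℤ) - 2) (p.2 : ℤ) (by omega) with h | ⟨t, h, ht⟩
  · simp [h, Pos.zero]
  rw [h, mul_comm, X, monomial_mul, mul_one]
  refine pos_monomial (good_add_single (hd.sub _) ⟨by simp, by simp only [wt]; omega⟩) ?_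
  rw [sgn_add_single, sgn_sub_single h0, neg_neg, ← mul_assoc]
  exact mul_nonneg hc (Nat.cast_nonneg _)

theorem term2_eq (p q : ℕ × ℕ) (P : RelRing g) : term2 g p q P =
    X none * (xv g ((p.1 : ℤ) - 1) ((p.2 : ℤ) - 1) * xv g ((q.1 : ℤ) - 1) ((q.2 : ℤ) - 1) * dv g p (dv g q P))
      + (-(mergeCoeff p.1 q.1 : ℚ)) • (xv g ((p.1 : ℤ) + q.1 - 2) ((p.2 : ℤ) + q.2) * dv g p (dv g q P)) := by
  rw [term2, smul_eq_C_mul, map_neg, map_natCast]
  ring

theorem term2_pos {d : Var g →₀ ℕ} {c : ℚ} (hd : Good d) (hc : 0 ≤ sgn d * c) (p q : ℕ × ℕ) :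
    Pos (term2 g p q (monomial d c)) := by
  rw [term2_eq]
  refine (pos_X_none_mul _).add ?_
  by_cases hq : Valid g q
  swap
  · rw [dv_of_not_valid hq]
    simp [show dv g p (0 : RelRing g) = 0 by unfold dv; split_ifs <;> simp, Pos.zero]
  by_cases hp : Valid g p
  swap
  · simp [dv_of_not_valid hp, Pos.zero]
  rw [dv_monomial hq, dv_monomial hp]
  by_cases h0 : d (some ⟨q, hq⟩) = 0
  · simp [h0, Pos.zero]
  by_cases h1 : (d - Finsupp.single (some ⟨q, hq⟩) 1 : Var g →₀ ℕ) (some ⟨p, hp⟩) = 0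
  · simp only [h1, Nat.cast_zero, mul_zero, map_zero, smul_zero]
    exact Pos.zero
  have hj : 1 ≤ q.2 := hd.snd_pos h0
  rcases xv_cases (g := g) ((p.1 : ℤ) + q.1 - 2) ((p.2 : ℤ) + q.2) (by omega) with h | ⟨t, h, ht⟩
  · simp [h, Pos.zero]
  rw [h, mul_comm (X _), X, monomial_mul, mul_one, smul_monomial]
  refine pos_monomial (good_add_single ((hd.sub _).sub _) ⟨by simp, by simp only [wt]; omega⟩) ?_
  rw [sgn_add_single, sgn_sub_single h1, sgn_sub_single h0, smul_eq_mul]
  have : 0 ≤ (mergeCoeff p.1 q.1 : ℚ) * ((d - Finsupp.single (some ⟨q, hq⟩) 1 : Var g →₀ ℕ) (some ⟨p, hp⟩) : ℕ) *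
      ((d (some ⟨q, hq⟩) : ℕ) : ℚ) * (sgn d * c) := mul_nonneg (by positivity) hc
  linarith

theorem pos_F_monomial {d : Var g →₀ ℕ} {c : ℚ} (hd : Good d) (hc : 0 ≤ sgn d * c) : Pos (F g (monomial d c)) := by
  rw [F_eq]
  exact ((Pos.sum _ _ fun p _ => Pos.sum _ _ fun q _ => term2_pos hd hc p q).smul (by norm_num)).add
    (Pos.sum _ _ fun p _ => term1_pos_or hd hc p)

theorem pos_F_monomial_of {d : Var g →₀ ℕ} {P : RelRing g} (hP : Pos P) : Pos (F g (monomial d (coeff d P))) := by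
  classical
  by_cases hn : d none = 0
  · by_cases hd : Good d
    · exact pos_F_monomial hd (hP d hn).2
    · simpa [(hP d hn).1 hd, ← FL_apply] using Pos.zero
  · have h : monomial d (coeff d P) = X none * monomial (d - Finsupp.single none 1) (coeff d P) := by
      rw [X, monomial_mul, one_mul, add_tsub_cancel_of_le (Finsupp.single_le_iff.2 (Nat.pos_of_ne_zero hn))]
    rw [h]
    have hy : ∀ Q : RelRing g, F g (X none * Q) = X none * F g Q := fun Q => by
      have e : ∀ (p : ℕ × ℕ) (R : RelRing g), dv g p (X none * R) = X none * dv g p R := fun p R => by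
        rw [dv_mul, dv_X_none]; ring
      simp only [F, e, mul_add, mul_smul_comm, Finset.mul_sum]
      congr 1
      · congr 1
        exact Finset.sum_congr rfl fun p _ => Finset.sum_congr rfl fun q _ => by ring
      · exact Finset.sum_congr rfl fun p _ => by ring
    rw [hy]
    exact pos_X_none_mul _

theorem pos_F {P : RelRing g} (hP : Pos P) : Pos (F g P) := by
  conv => arg 1; rw [P.as_sum, ← FL_apply, map_sum]
  exact Pos.sum _ _ fun d _ => pos_F_monomial_of hP

theorem hit_F {P : RelRing g} (hP : Pos P) {d d' : Var g →₀ ℕ} (hd : Hit d P)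
    (h : Hit d' (F g (monomial d (coeff d P)))) : Hit d' (F g P) := by
  classical
  conv => arg 2; rw [P.as_sum, ← FL_apply, map_sum]
  refine Hit.sum (i := d) ?_ h fun e _ => pos_F_monomial_of hP
  rw [mem_support_iff]
  intro h0
  simpa [h0] using hd.2

theorem hit_good {P : RelRing g} (hP : Pos P) {d : Var g →₀ ℕ} (hd : Hit d P) : Good d := by
  by_contra h
  simpa [(hP d hd.1).1 h] using hd.2

/-- A merging step. -/
theorem hit_merge {P : RelRing g} (hP : Pos P) {e : Var g →₀ ℕ} (p q t : {p : ℕ × ℕ // Valid g p})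
    (hd : Hit (e + Finsupp.single (some p) 1 + Finsupp.single (some q) 1) P)
    (ht₁ : (t.1.1 : ℤ) = (p.1.1 : ℤ) + q.1.1 - 2) (ht₂ : t.1.2 = p.1.2 + q.1.2) (hp : 1 ≤ p.1.1) (hq : 1 ≤ q.1.1) :
    Hit (e + Finsupp.single (some t) 1) (F g P) := by
  classical
  refine hit_F hP hd ?_
  set d := e + Finsupp.single (some p) 1 + Finsupp.single (some q) 1 with hd'
  have hg' := hit_good hP hd
  have hpos := hd.2
  rw [F_eq]
  refine Hit.add ?_ (Pos.sum _ _ fun r _ => term1_pos_or hg' hpos.le r)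
  refine Hit.smul ?_ (by norm_num)
  refine Hit.sum (i := p.1) (valid_mem_idx p.2) ?_ fun r _ => Pos.sum _ _ fun r' _ => term2_pos hg' hpos.le r r'
  refine Hit.sum (i := q.1) (valid_mem_idx q.2) ?_ fun r' _ => term2_pos hg' hpos.le p.1 r'
  rw [term2_eq, add_comm (X none * _)]
  refine Hit.add ?_ (pos_X_none_mul _)
  have hx : xv g ((p.1.1 : ℤ) + q.1.1 - 2) ((p.1.2 : ℤ) + q.1.2) = X (some t) := by
    rw [← ht₁, show (p.1.2 : ℤ) + q.1.2 = (t.1.2 : ℤ) by omega]
    exact xv_of_valid t.2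
  rw [hx, dv_monomial q.2, dv_monomial p.2]
  have hsub : d - Finsupp.single (some q) 1 = e + Finsupp.single (some p) 1 := by
    rw [hd', add_tsub_cancel_right]
  have hsub' : e + Finsupp.single (some p) 1 - Finsupp.single (some p) 1 = e := add_tsub_cancel_right _ _
  simp only [Subtype.coe_eta, hsub, hsub']
  rw [mul_comm (X _), X, monomial_mul, mul_one, smul_monomial]
  refine hit_monomial ?_ ?_
  · have := hd.1
    simp [hd'] at this ⊢
    exact this
  · have h1 : sgn (e + Finsupp.single (some t) 1) = -sgn d := by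
      rw [hd', sgn_add_single, sgn_add_single, sgn_add_single]
      ring
    have hm : 0 < mergeCoeff p.1.1 q.1.1 := by
      rw [mergeCoeff, if_neg (by omega)]
      exact Nat.choose_pos (by omega)
    have h2 : 0 < (d (some q) : ℚ) := by exact_mod_cast (show 0 < d (some q) by simp [hd'])
    have h3 : 0 < ((e + Finsupp.single (some p) 1 : Var g →₀ ℕ) (some p) : ℚ) := by
      exact_mod_cast (show 0 < (e + Finsupp.single (some p) 1 : Var g →₀ ℕ) (some p) by simp)
    rw [h1, smul_eq_mul]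
    have : 0 < (mergeCoeff p.1.1 q.1.1 : ℚ) * ((e + Finsupp.single (some p) 1 : Var g →₀ ℕ) (some p) : ℕ) * (d (some q) : ℕ) *
        (sgn d * coeff d P) := by
      have : (0 : ℚ) < mergeCoeff p.1.1 q.1.1 := by exact_mod_cast hm
      positivity
    linarith

/-- A lowering step. -/
theorem hit_lower {P : RelRing g} (hP : Pos P) {e : Var g →₀ ℕ} (p t : {p : ℕ × ℕ // Valid g p})
    (hd : Hit (e + Finsupp.single (some p) 1) P)
    (ht₁ : (t.1.1 : ℤ) = (p.1.1 : ℤ) - 2) (ht₂ : t.1.2 = p.1.2) :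
    Hit (e + Finsupp.single (some t) 1) (F g P) := by
  classical
  refine hit_F hP hd ?_
  set d := e + Finsupp.single (some p) 1 with hd'
  have hg' := hit_good hP hd
  have hpos := hd.2
  rw [F_eq, add_comm ((1 / 2 : ℚ) • _)]
  refine Hit.add ?_ ((Pos.sum _ _ fun r _ => Pos.sum _ _ fun r' _ => term2_pos hg' hpos.le r r').smul (c := (1 / 2 : ℚ)) (by norm_num))
  refine Hit.sum (i := p.1) (valid_mem_idx p.2) ?_ fun r _ => term1_pos_or hg' hpos.le r
  have hx : xv g ((p.1.1 : ℤ) - 2) (p.1.2 : ℤ) = X (some t) := by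
    rw [← ht₁, ← ht₂]
    exact xv_of_valid t.2
  rw [term1, hx, dv_monomial p.2]
  have hsub : d - Finsupp.single (some p) 1 = e := by rw [hd', add_tsub_cancel_right]
  simp only [Subtype.coe_eta, hsub]
  rw [mul_comm (X _), X, monomial_mul, mul_one]
  refine hit_monomial ?_ ?_
  · have := hd.1
    simp [hd'] at this ⊢
    exact this
  · have h1 : sgn (e + Finsupp.single (some t) 1) = sgn d := by rw [hd', sgn_add_single, sgn_add_single]
    have h2 : 0 < (d (some p) : ℚ) := by exact_mod_cast (show 0 < d (some p) by simp [hd'])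
    rw [h1, ← mul_assoc]
    exact mul_pos hpos h2

theorem valid_top {i J : ℕ} (hJ : 1 ≤ J) (hle : J + 2 ≤ 2 * g) (hi : ∃ t, i + 2 * t = J + 2) : Valid g (i, J) := by
  obtain ⟨t, ht⟩ := hi
  exact ⟨by simp only; omega, hle, ⟨J + 1 - t, by simp only; omega⟩, by simp; omega⟩

/-- The distinguished monomial of first degree `2g+2` reaching `x 0 (2i)`. -/
theorem exists_monomial_hit {i : ℕ} (h1 : g < 3 * i) (h2 : i < g) (v : {p : ℕ × ℕ // Valid g p})
    (hv : v.1 = (0, 2 * i)) :
    ∃ d : Var g →₀ ℕ, Finsupp.weight (wt g) d = (2 * g + 2, 2 * i) ∧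
      coeff (Finsupp.single (some v) 1) ((F g)^[g + 1] (monomial d 1)) ≠ 0 := by
  classical
  have h31 : Valid g (3, 1) := valid_top le_rfl (by omega) ⟨0, rfl⟩
  let w : {p : ℕ × ℕ // Valid g p} := ⟨(3, 1), h31⟩
  let k := g - i
  let J := 2 * i - k
  have hi : ∀ m, m ≤ k → Valid g (J + m + 2, J + m) := fun m hm =>
    valid_top (by omega) (by omega) ⟨0, rfl⟩
  let top : ∀ m, m ≤ k → Var g := fun m hm => some ⟨(J + m + 2, J + m), hi m hm⟩
  let d₀ : Var g →₀ ℕ := Finsupp.single (some w) k + Finsupp.single (top 0 (Nat.zero_le _)) 1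
  let P : ℕ → RelRing g := fun n => (F g)^[n] (monomial d₀ (sgn d₀))
  have hgood : Good d₀ := fun u hu => by
    by_cases hu' : u = some w
    · subst hu'; exact ⟨by simp, by simp [wt, w]⟩
    · have : u = top 0 (Nat.zero_le _) := by
        by_contra h
        simp [d₀, Finsupp.single_apply, Ne.symm hu', Ne.symm h] at hu
      subst this
      exact ⟨by simp [top], by simp [top, wt]; omega⟩
  have hs : 0 < sgn d₀ * sgn d₀ := by rw [sgn, ← mul_pow]; simp
  have hpos : ∀ n, Pos (P n) := fun n => by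
    induction n with
    | zero => exact pos_monomial hgood hs.le
    | succ n ih => simp only [P, Function.iterate_succ_apply']; exact pos_F ih
  have hA : ∀ m (hm : m ≤ k), Hit (Finsupp.single (some w) (k - m) + Finsupp.single (top m hm) 1) (P m) := by
    intro m
    induction m with
    | zero => exact fun _ => hit_monomial (good_none hgood) hs
    | succ m ih =>
      intro hm
      simp only [P, Function.iterate_succ_apply']
      refine hit_merge (hpos m) (e := Finsupp.single (some w) (k - (m + 1))) w ⟨_, hi m (by omega)⟩ ⟨_, hi (m + 1) hm⟩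
        ?_ ?_ ?_ ?_ ?_
      · have := ih (by omega)
        rwa [show k - m = k - (m + 1) + 1 by omega, Finsupp.single_add] at this
      all_goals simp [w] <;> omega
  have hlow : ∀ t, t ≤ i + 1 → Valid g (2 * i + 2 - 2 * t, 2 * i) := fun t ht =>
    valid_top (by omega) (by omega) ⟨t, by omega⟩
  have hB : ∀ t (ht : t ≤ i + 1), Hit (Finsupp.single (some ⟨_, hlow t ht⟩) 1) (P (k + t)) := by
    intro t
    induction t with
    | zero =>
      intro _
      have := hA k le_rfl
      simp only [Nat.sub_self, Finsupp.single_zero, zero_add] at this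
      convert this using 4
      · refine Prod.ext ?_ ?_ <;> simp <;> omega
      · rfl
    | succ t ih =>
      intro ht
      simp only [P, ← Nat.add_assoc, Function.iterate_succ_apply']
      have := hit_lower (hpos (k + t)) (e := 0) ⟨_, hlow t (by omega)⟩ ⟨_, hlow (t + 1) ht⟩
        (by simpa using ih (by omega)) (by simp only; omega) rfl
      simpa using this
  have hfin := hB (i + 1) le_rfl
  refine ⟨d₀, ?_, ?_⟩
  · simp [d₀, top, w, wt, Finsupp.weight_single, Prod.ext_iff]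
    omega
  · have e : (⟨_, hlow (i + 1) le_rfl⟩ : {p : ℕ × ℕ // Valid g p}) = v := Subtype.ext (by rw [hv]; ext <;> simp; omega)
    rw [e, show k + (i + 1) = g + 1 by omega] at hfin
    intro h0
    have h := hfin.2
    have hP : P (g + 1) = sgn d₀ • (F g)^[g + 1] (monomial d₀ 1) := by
      simp only [P, show monomial d₀ (sgn d₀) = sgn d₀ • (monomial d₀ 1 : RelRing g) by simp [smul_monomial]]
      induction g + 1 with
      | zero => rfl
      | succ n ih => rw [Function.iterate_succ_apply', Function.iterate_succ_apply', ih, F_smul]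
    rw [hP, coeff_smul, h0, smul_zero, mul_zero] at h
    exact lt_irrefl _ h

end GrothLib.W4cTaut7
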